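import Groth.Agent.Lib.P1Const28.Main
import Groth.Agent.Lib.EssDim.P1Points
import Groth.Agent.Lib.EssDim.GenusZero
import Mathlib.AlgebraicGeometry.AlgClosed.Basic
import Mathlib.FieldTheory.PurelyInseparable.Basic

/-!
# The projective line minus a purely inseparable point is a form of the affine line
-/

universe u

open CategoryTheory CategoryTheory.Limits AlgebraicGeometry MvPolynomial HomogeneousLocalization

set_option backward.isDefEq.respectTransparency false
set_option linter.style.haveILetI false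

noncomputable section

namespace GrothLib.FormA1

open GrothLib.P1Const28

variable {L : Type u} [Field L]

/-- The affine coordinate as a ring map from the degree zero localization. -/
def chartHom (L : Type u) [Field L] :
    Away (CohB1.polyGrading 1 L) (X (0 : Fin 2)) →+* Polynomial L :=
  ProjPt.evalAway (CohB1.polyGrading 1 L)
    (eval₂Hom (Polynomial.C : L →+* Polynomial L) ![1, Polynomial.X]) (X (0 : Fin 2))
    (by rw [eval₂Hom_X']; simp)

theorem chartHom_surjective : Function.Surjective (chartHom L) := by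
  intro p
  have hc : ∀ r : L, Polynomial.C r ∈ (chartHom L).range := by
    intro r
    refine ⟨Away.mk (CohB1.polyGrading 1 L) (isHomogeneous_X L (0 : Fin 2)) 0 (C r)
      (by simpa using isHomogeneous_C (Fin 2) r), ?_⟩
    have h := ProjPt.evalAway_mk_spec (CohB1.polyGrading 1 L)
      (eval₂Hom (Polynomial.C : L →+* Polynomial L) ![1, Polynomial.X]) (isHomogeneous_X L (0 : Fin 2))
      (by rw [eval₂Hom_X']; simp) 0 (C r) (by simpa using isHomogeneous_C (Fin 2) r)
    simpa [chartHom] using h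
  have hX : (Polynomial.X : Polynomial L) ∈ (chartHom L).range := by
    refine ⟨Away.mk (CohB1.polyGrading 1 L) (isHomogeneous_X L (0 : Fin 2)) 1 (X 1)
      (by simpa using isHomogeneous_X L (1 : Fin 2)), ?_⟩
    have h := ProjPt.evalAway_mk_spec (CohB1.polyGrading 1 L)
      (eval₂Hom (Polynomial.C : L →+* Polynomial L) ![1, Polynomial.X]) (isHomogeneous_X L (0 : Fin 2))
      (by rw [eval₂Hom_X']; simp) 1 (X 1) (by simpa using isHomogeneous_X L (1 : Fin 2))
    simpa [chartHom] using h
  induction p using Polynomial.induction_on' with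
  | add a b ha hb =>
    obtain ⟨x, rfl⟩ := ha
    obtain ⟨y, rfl⟩ := hb
    exact ⟨x + y, map_add _ _ _⟩
  | monomial n a =>
    rw [← Polynomial.C_mul_X_pow_eq_monomial]
    exact Subring.mul_mem _ (hc a) (Subring.pow_mem _ hX n)

theorem lineι_eq : lineι L = Spec.map (CommRingCat.ofHom (chartHom L)) ≫
    Proj.awayι (CohB1.polyGrading 1 L) (X (0 : Fin 2)) (isHomogeneous_X L (0 : Fin 2)) one_pos := by
  rw [lineι, pt, ProjPt.pt, ← ProjPt.comp_evalAway (CohB1.polyGrading 1 L)
    (Scheme.ΓSpecIso (CommRingCat.of (Polynomial L))).inv.hom _ (d := 1) (isHomogeneous_X L (0 : Fin 2))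
    (by rw [eval₂Hom_X']; simp), CommRingCat.ofHom_comp, CommRingCat.ofHom_hom,
    Spec.map_comp, ← Category.assoc, ← Category.assoc, toSpecΓ_SpecMap_ΓSpecIso_inv, Category.id_comp]
  rfl

theorem isIso_specMap_chartHom : IsIso (Spec.map (CommRingCat.ofHom (chartHom L))) := by
  haveI : IsIso (CommRingCat.ofHom (chartHom L)) :=
    (ConcreteCategory.isIso_iff_bijective _).2 ⟨chart_injective, chartHom_surjective⟩
  infer_instance

instance isOpenImmersion_lineι : IsOpenImmersion (lineι L) := by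
  rw [lineι_eq]
  haveI := isIso_specMap_chartHom (L := L)
  infer_instance

theorem mem_range_lineι (z : CohB1.ProjSpace 1 L) :
    z ∈ Set.range (lineι L) ↔ z ∈ Proj.basicOpen (CohB1.polyGrading 1 L) (X (0 : Fin 2)) := by
  rw [lineι_eq]
  haveI := isIso_specMap_chartHom (L := L)
  rw [← Scheme.Hom.coe_opensRange, Scheme.Hom.opensRange_comp_of_isIso]
  exact Iff.of_eq (congrArg (fun U : (Proj (CohB1.polyGrading 1 L)).Opens => z ∈ U) (Proj.opensRange_awayι _ _ _ _))

theorem decompose_apply (a : MvPolynomial (Fin 2) L) (i : ℕ) :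
    (DirectSum.decompose (CohB1.polyGrading 1 L) a i : MvPolynomial (Fin 2) L) = homogeneousComponent i a :=
  decomposition.decompose'_apply a i

/-- Away from the first chart there is only one point. -/
theorem mem_iff_dvd {x : CohB1.ProjSpace 1 L} (hx : x ∉ Proj.basicOpen (CohB1.polyGrading 1 L) (X (0 : Fin 2)))
    {m : ℕ} {a : MvPolynomial (Fin 2) L} (ha : a ∈ CohB1.polyGrading 1 L m) :
    a ∈ (x : ProjectiveSpectrum _).asHomogeneousIdeal.toIdeal ↔ (X 0 : MvPolynomial (Fin 2) L) ∣ a := by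
  let p := (x : ProjectiveSpectrum _).asHomogeneousIdeal.toIdeal
  haveI hp : p.IsPrime := (x : ProjectiveSpectrum _).isPrime
  have h0 : (X 0 : MvPolynomial (Fin 2) L) ∈ p := by
    by_contra h
    exact hx h
  have h1 : (X 1 : MvPolynomial (Fin 2) L) ∉ p := by
    intro h1
    apply (x : ProjectiveSpectrum _).not_irrelevant_le
    intro b hb
    rw [HomogeneousIdeal.mem_irrelevant_iff] at hb
    change b ∈ p
    rw [as_sum b]
    refine Ideal.sum_mem _ fun d hd => ?_
    have hne : d ≠ 0 := by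
      intro h
      rw [h, mem_support_iff] at hd
      apply hd
      have h' := congrArg (coeff 0) ((decompose_apply b 0).symm.trans hb)
      rwa [coeff_homogeneousComponent, if_pos (by simp), coeff_zero] at h'
    obtain ⟨i, hi⟩ := Finsupp.ne_iff.1 hne
    rw [monomial_eq]
    refine p.mul_mem_left _ ?_
    rw [Finsupp.prod]
    refine Ideal.mem_of_dvd p (Finset.dvd_prod_of_mem _ (Finsupp.mem_support_iff.2 hi)) (p.pow_mem_of_mem ?_ _ (Nat.pos_of_ne_zero hi))
    fin_cases i <;> assumption
  refine ⟨fun hm => ?_, fun ⟨c, hc⟩ => hc ▸ p.mul_mem_right c h0⟩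
  have key : ∀ d ∈ a.support, d 0 = 0 → d = Finsupp.single 1 m := by
    intro d hd hd0
    have := ha (mem_support_iff.1 hd)
    simp [Finsupp.weight_apply, Finsupp.sum_fintype, Fin.sum_univ_two] at this
    ext i
    fin_cases i <;> simp_all
  rw [X_dvd_iff_modMonomial_eq_zero]
  refine MvPolynomial.ext _ _ fun d => ?_
  rw [coeff_zero]
  by_cases hd : Finsupp.single 0 1 ≤ d
  · exact coeff_modMonomial_of_le _ hd
  rw [coeff_modMonomial_of_not_le _ hd]
  by_contra hc
  have hd0 : d 0 = 0 := by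
    by_contra h
    exact hd (Finsupp.single_le_iff.2 (Nat.one_le_iff_ne_zero.2 h))
  have hdm := key d (mem_support_iff.2 hc) hd0
  have hsum : ∑ e ∈ a.support.erase d, monomial e (coeff e a) ∈ p := by
    refine Ideal.sum_mem _ fun e he => ?_
    rw [Finset.mem_erase] at he
    have he0 : e 0 ≠ 0 := fun h => he.1 ((key e he.2 h).trans hdm.symm)
    rw [monomial_eq]
    refine p.mul_mem_left _ ?_
    rw [Finsupp.prod]
    exact Ideal.mem_of_dvd p (Finset.dvd_prod_of_mem _ (Finsupp.mem_support_iff.2 he0)) (p.pow_mem_of_mem h0 _ (Nat.pos_of_ne_zero he0))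
  have hdp : monomial d (coeff d a) ∈ p := by
    have h2 : a ∈ p := hm
    rw [as_sum a, ← Finset.add_sum_erase _ _ (mem_support_iff.2 hc)] at h2
    exact (p.add_mem_iff_left hsum).1 h2
  rw [hdm, ← C_mul_X_pow_eq_monomial] at hdp
  rcases hp.mem_or_mem hdp with h | h
  · exact hp.ne_top (p.eq_top_of_isUnit_mem h ((isUnit_iff_ne_zero.2 (hdm ▸ hc)).map C))
  · exact h1 (hp.mem_of_pow_mem _ h)

theorem eq_of_notMem {x y : CohB1.ProjSpace 1 L}
    (hx : x ∉ Proj.basicOpen (CohB1.polyGrading 1 L) (X (0 : Fin 2)))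
    (hy : y ∉ Proj.basicOpen (CohB1.polyGrading 1 L) (X (0 : Fin 2))) : x = y := by
  refine ProjectiveSpectrum.ext (HomogeneousIdeal.toIdeal_injective (Ideal.ext fun a => ?_))
  rw [HomogeneousIdeal.mem_iff, HomogeneousIdeal.mem_iff]
  constructor <;> intro h
  · rw [← sum_homogeneousComponent a]
    exact Ideal.sum_mem _ fun i _ => (mem_iff_dvd hy (homogeneousComponent_mem i a)).2
      ((mem_iff_dvd hx (homogeneousComponent_mem i a)).1 (by
        have := (x : ProjectiveSpectrum _).asHomogeneousIdeal.isHomogeneous i h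
        rwa [decompose_apply] at this))
  · rw [← sum_homogeneousComponent a]
    exact Ideal.sum_mem _ fun i _ => (mem_iff_dvd hx (homogeneousComponent_mem i a)).2
      ((mem_iff_dvd hy (homogeneousComponent_mem i a)).1 (by
        have := (y : ProjectiveSpectrum _).asHomogeneousIdeal.isHomogeneous i h
        rwa [decompose_apply] at this))

/-- The projective line minus a rational point is the affine line. -/
theorem exists_line_of_point (u : Spec (CommRingCat.of L) ⟶ CohB1.ProjSpace 1 L)
    (hu : u ≫ CohB1.ProjSpace.toSpec 1 L = 𝟙 _) :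
    ∃ w : Spec (CommRingCat.of (Polynomial L)) ⟶ CohB1.ProjSpace 1 L, IsOpenImmersion w ∧
      w ≫ CohB1.ProjSpace.toSpec 1 L = Spec.map (CommRingCat.ofHom (algebraMap L (Polynomial L))) ∧
      Set.range w = {u (IsLocalRing.closedPoint L)}ᶜ := by
  obtain ⟨j, hj⟩ : ∃ j : Fin 2, EssDim.P1.stdPt (L := L) j (IsLocalRing.closedPoint L) ≠ u (IsLocalRing.closedPoint L) := by
    by_contra! h
    exact EssDim.P1.stdPt_ne (L := L) (i := 0) (j := 1) (by decide) ((h 0).trans (h 1).symm)
  obtain ⟨e, he, -, he1⟩ := EssDim.P1.exists_aut_std (EssDim.P1.stdPt j) u (EssDim.P1.stdPt_toSpec j) hu hj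
  refine ⟨lineι L ≫ e.inv, inferInstance, ?_, ?_⟩
  · rw [Category.assoc, (Iso.inv_comp_eq e).2 he.symm, lineι, pt_toSpec]
    rfl
  · have hnm : EssDim.P1.stdPt (L := L) 1 (IsLocalRing.closedPoint L) ∉
        Proj.basicOpen (CohB1.polyGrading 1 L) (X (0 : Fin 2)) := fun h =>
      (EssDim.P1.cpt_mem_iff (L := L) _ 1 (by simp) 0).1 h (by simp)
    have he1' : e.hom (u (IsLocalRing.closedPoint L)) = EssDim.P1.stdPt 1 (IsLocalRing.closedPoint L) := by
      rw [← he1]; rfl
    ext z
    have hz : z ∈ Set.range (lineι L ≫ e.inv) ↔ e.hom z ∈ Set.range (lineι L) := by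
      constructor
      · rintro ⟨t, rfl⟩
        exact ⟨t, by simp⟩
      · rintro ⟨t, ht⟩
        exact ⟨t, by simp [ht]⟩
    rw [hz, mem_range_lineι, Set.mem_compl_iff, Set.mem_singleton_iff]
    refine ⟨fun h hzu => ?_, fun h => ?_⟩
    · rw [hzu, he1'] at h
      exact hnm h
    · by_contra h'
      apply h
      have := congrArg e.inv ((eq_of_notMem h' hnm).trans he1'.symm)
      simpa using this

variable {k : Type u} [Field k]

theorem main (P : ↥(CohB1.ProjSpace 1 k)) (hP : IsClosed ({P} : Set ↥(CohB1.ProjSpace 1 k)))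
    (hpi : letI := ((CohB1.ProjSpace.toSpec 1 k).residueFieldMap P).hom.toAlgebra
      IsPurelyInseparable ↑((Spec (CommRingCat.of k)).residueField ((CohB1.ProjSpace.toSpec 1 k) P))
        ↑((CohB1.ProjSpace 1 k).residueField P))
    (K : Type u) [Field K] [Algebra k K] [IsAlgClosed K] :
    ∃ e : pullback (@Scheme.Opens.ι (CohB1.ProjSpace 1 k) ⟨{P}ᶜ, hP.isOpen_compl⟩ ≫ CohB1.ProjSpace.toSpec 1 k)
        (Spec.map (CommRingCat.ofHom (algebraMap k K))) ≅ Spec (CommRingCat.of (Polynomial K)),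
      e.hom ≫ Spec.map (CommRingCat.ofHom (algebraMap K (Polynomial K))) = pullback.snd _ _ := by
  obtain ⟨ω, hω⟩ := EssDim.exists_bcP1 (algebraMap k K)
  haveI : IsProper (CohB1.ProjSpace.toSpec 1 K) := Chow.isProper_toSpec 1 K
  haveI : JacobsonSpace (CohB1.ProjSpace 1 K) :=
    LocallyOfFiniteType.jacobsonSpace (CohB1.ProjSpace.toSpec 1 K)
  haveI : Surjective (Spec.map (CommRingCat.ofHom (algebraMap k K))) :=
    ⟨fun x => ⟨IsLocalRing.closedPoint K, Subsingleton.elim _ _⟩⟩
  haveI : Surjective ω := MorphismProperty.of_isPullback (P := @Surjective) hω.flip inferInstance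
  have hne : (ω ⁻¹' {P}).Nonempty := ω.surjective P
  obtain ⟨Q, hQP, hQ⟩ := nonempty_inter_closedPoints hne (hP.preimage ω.continuous).isLocallyClosed
  let pq := fun (R : CohB1.ProjSpace 1 K) (hR : IsClosed ({R} : Set (CohB1.ProjSpace 1 K))) =>
    pointOfClosedPoint (CohB1.ProjSpace.toSpec 1 K) R hR
  have uniq : ∀ u v : Spec (CommRingCat.of K) ⟶ CohB1.ProjSpace 1 K,
      u ≫ CohB1.ProjSpace.toSpec 1 K = 𝟙 _ → v ≫ CohB1.ProjSpace.toSpec 1 K = 𝟙 _ →
      ω (u (IsLocalRing.closedPoint K)) = P → ω (v (IsLocalRing.closedPoint K)) = P → u = v := by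
    intro u v hu hv huP hvP
    refine hω.hom_ext ?_ (hu.trans hv.symm)
    have dec : ∀ a : Spec (CommRingCat.of K) ⟶ CohB1.ProjSpace 1 k, a (IsLocalRing.closedPoint K) = P →
        ∃ φ : (CohB1.ProjSpace 1 k).residueField P ⟶ CommRingCat.of K,
          a = Spec.map φ ≫ (CohB1.ProjSpace 1 k).fromSpecResidueField P := by
      intro a ha
      subst ha
      exact ⟨((CohB1.ProjSpace 1 k).SpecToEquivOfField K a).2,
        (((CohB1.ProjSpace 1 k).SpecToEquivOfField K).symm_apply_apply a).symm⟩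
    obtain ⟨φ, hφ⟩ := dec (u ≫ ω) (by simpa using huP)
    obtain ⟨ψ, hψ⟩ := dec (v ≫ ω) (by simpa using hvP)
    have hg : (CohB1.ProjSpace.toSpec 1 k).residueFieldMap P ≫ φ =
        (CohB1.ProjSpace.toSpec 1 k).residueFieldMap P ≫ ψ := by
      apply Spec.map_injective
      rw [← cancel_mono ((Spec (CommRingCat.of k)).fromSpecResidueField _), Spec.map_comp, Spec.map_comp,
        Category.assoc, Category.assoc, Scheme.Hom.SpecMap_residueFieldMap_fromSpecResidueField,
        ← Category.assoc, ← Category.assoc, ← hφ, ← hψ, Category.assoc, Category.assoc, hω.w,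
        ← Category.assoc, ← Category.assoc, hu, hv]
    have hφψ : φ = ψ := by
      letI := ((CohB1.ProjSpace.toSpec 1 k).residueFieldMap P).hom.toAlgebra
      haveI := hpi
      refine CommRingCat.hom_ext (IsPurelyInseparable.injective_comp_algebraMap
        ↑((Spec (CommRingCat.of k)).residueField ((CohB1.ProjSpace.toSpec 1 k) P))
        ↑((CohB1.ProjSpace 1 k).residueField P) K ?_)
      exact congrArg CommRingCat.Hom.hom hg
    rw [hφ, hψ, hφψ]
  have hfib : ω ⁻¹' {P} = {Q} := by
    refine subset_antisymm ?_ (Set.singleton_subset_iff.2 hQP)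
    intro x hx
    have hsub : ω ⁻¹' {P} ∩ closedPoints (CohB1.ProjSpace 1 K) ⊆ {Q} := by
      rintro R ⟨hR, hRc⟩
      have := uniq (pq R hRc) (pq Q hQ) (pointOfClosedPoint_comp _ _ _) (pointOfClosedPoint_comp _ _ _)
        (by simpa [pq] using hR) (by simpa [pq] using hQP)
      have h2 := congrArg (fun (m : Spec (CommRingCat.of K) ⟶ CohB1.ProjSpace 1 K) => m (IsLocalRing.closedPoint K)) this
      simpa [pq] using h2
    have h3 := (JacobsonSpace.closure_inter_closedPoints (hP.preimage ω.continuous)).symm.le hx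
    exact (closure_minimal hsub hQ) h3
  obtain ⟨w, hw, hwt, hwr⟩ := exists_line_of_point (pq Q hQ) (pointOfClosedPoint_comp _ _ _)
  let V : (CohB1.ProjSpace 1 k).Opens := ⟨{P}ᶜ, hP.isOpen_compl⟩
  have h := (isPullback_morphismRestrict ω V).paste_vert hω
  have hr : Set.range w = Set.range (ω ⁻¹ᵁ V).ι := by
    rw [hwr, Scheme.Opens.range_ι]
    show _ = ω ⁻¹' ({P}ᶜ)
    rw [Set.preimage_compl, hfib]
    simp [pq]
  refine ⟨h.isoPullback.symm ≪≫ (IsOpenImmersion.isoOfRangeEq w (ω ⁻¹ᵁ V).ι hr).symm, ?_⟩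
  rw [← hwt, Iso.trans_hom, Category.assoc, Iso.symm_hom, Iso.symm_hom, ← Category.assoc (IsOpenImmersion.isoOfRangeEq _ _ hr).inv,
    IsOpenImmersion.isoOfRangeEq_inv_fac, Iso.inv_comp_eq]
  exact h.isoPullback_hom_snd.symm

end GrothLib.FormA1
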