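import Groth.Agent.Lib.P1Const28.Basic
import Groth.Agent.Lib.Chow.Prod
import Mathlib.FieldTheory.RatFunc.IntermediateField
import Mathlib.Algebra.Category.Ring.Epi
import Mathlib.RingTheory.PolynomialAlgebra
import Mathlib.AlgebraicGeometry.Morphisms.Separated
import Mathlib.AlgebraicGeometry.Properties

/-!
# Automorphisms of the projective line fixing a point of degree at least three
-/

universe u

open CategoryTheory CategoryTheory.Limits AlgebraicGeometry Polynomial

set_option backward.isDefEq.respectTransparency false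
set_option linter.style.haveILetI false

noncomputable section

namespace GrothLib.P1Rigid

open HomogeneousLocalization

variable {k : Type u} [Field k]

/-- The coordinates of the standard affine lines. -/
def vec (k : Type u) [Field k] : Fin 2 → Fin 2 → Polynomial k :=
  ![![1, Polynomial.X], ![Polynomial.X, 1]]

theorem isUnit_vec (i : Fin 2) : IsUnit (vec k i i) := by fin_cases i <;> simp [vec]

/-- The standard affine lines in the projective line. -/
def line (k : Type u) [Field k] (i : Fin 2) : Spec (CommRingCat.of (Polynomial k)) ⟶ CohB1.ProjSpace 1 k :=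
  P1Const28.pt (Polynomial.C : k →+* Polynomial k) (vec k i) i (isUnit_vec i)

theorem line_toSpec (i : Fin 2) : line k i ≫ CohB1.ProjSpace.toSpec 1 k =
    Spec.map (CommRingCat.ofHom (Polynomial.C : k →+* Polynomial k)) := P1Const28.pt_toSpec _ _ _ _

theorem isUnit_eval_X (i : Fin 2) :
    IsUnit (MvPolynomial.eval₂Hom (Polynomial.C : k →+* Polynomial k) (vec k i) (MvPolynomial.X i)) := by
  rw [MvPolynomial.eval₂Hom_X']; exact isUnit_vec i

/-- The affine coordinate as a ring map from the degree zero localization. -/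
def chartHom (k : Type u) [Field k] (i : Fin 2) :
    Away (CohB1.polyGrading 1 k) (MvPolynomial.X i : MvPolynomial (Fin 2) k) →+* Polynomial k :=
  ProjPt.evalAway (CohB1.polyGrading 1 k) (MvPolynomial.eval₂Hom Polynomial.C (vec k i)) (MvPolynomial.X i)
    (isUnit_eval_X i)

theorem chartHom_injective (i : Fin 2) : Function.Injective (chartHom k i) := by
  rw [injective_iff_map_eq_zero]
  intro z hz
  obtain ⟨n, b, hb, rfl⟩ := Away.mk_surjective (CohB1.polyGrading 1 k) (d := 1)
    (MvPolynomial.isHomogeneous_X k i) z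
  have h := ProjPt.evalAway_mk_spec (CohB1.polyGrading 1 k)
    (MvPolynomial.eval₂Hom Polynomial.C (vec k i)) (MvPolynomial.isHomogeneous_X k i) (isUnit_eval_X i) n b hb
  change chartHom k i _ * _ = _ at h
  rw [hz, zero_mul] at h
  fin_cases i
  · simp only [vec, Fin.zero_eta, Matrix.cons_val_zero] at h
    have hb0 : b = 0 := by
      refine MvPolynomial.ext _ _ fun s => ?_
      rw [MvPolynomial.coeff_zero]
      by_contra hs
      have hbn : MvPolynomial.IsHomogeneous b n := by simpa using hb
      have hsn := hbn hs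
      have h1 := congrArg (fun q : Polynomial k => q.coeff (s 1)) h
      simp only [Polynomial.coeff_zero, MvPolynomial.coe_eval₂Hom, MvPolynomial.eval₂_eq, Polynomial.finset_sum_coeff] at h1
      rw [Finset.sum_eq_single s] at h1
      · simp only [Polynomial.coeff_C_mul] at h1
        rw [show (∏ i ∈ s.support, ![(1 : Polynomial k), Polynomial.X] i ^ s i) = Polynomial.X ^ s 1 by
          rw [Finset.prod_subset (Finset.subset_univ _) (fun i _ hi => by
            rw [Finsupp.notMem_support_iff.1 hi, pow_zero]), Fin.prod_univ_two]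
          simp] at h1
        simp at h1
        exact hs h1.symm
      · intro t ht hts
        have htn := hbn (MvPolynomial.mem_support_iff.1 ht)
        rw [Polynomial.coeff_C_mul, Finset.prod_subset (Finset.subset_univ _) (fun i _ hi => by
          rw [Finsupp.notMem_support_iff.1 hi, pow_zero]), Fin.prod_univ_two]
        simp only [Matrix.cons_val_zero, Matrix.cons_val_one, one_pow]
        rw [one_mul, Polynomial.coeff_X_pow]
        rw [if_neg, mul_zero]
        intro he
        apply hts
        simp [Finsupp.weight_apply, Finsupp.sum_fintype, Fin.sum_univ_two] at hsn htn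
        refine Finsupp.ext fun i => ?_
        fin_cases i <;> simp_all <;> omega
      · intro hh
        exact absurd (MvPolynomial.mem_support_iff.2 hs) hh
    apply HomogeneousLocalization.val_injective
    rw [Away.val_mk, hb0]
    simp [Localization.mk_zero]
  · simp only [vec, Fin.mk_one, Matrix.cons_val_one, Matrix.cons_val_fin_one] at h
    have hb0 : b = 0 := by
      refine MvPolynomial.ext _ _ fun s => ?_
      rw [MvPolynomial.coeff_zero]
      by_contra hs
      have hbn : MvPolynomial.IsHomogeneous b n := by simpa using hb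
      have hsn := hbn hs
      have h1 := congrArg (fun q : Polynomial k => q.coeff (s 0)) h
      simp only [Polynomial.coeff_zero, MvPolynomial.coe_eval₂Hom, MvPolynomial.eval₂_eq, Polynomial.finset_sum_coeff] at h1
      rw [Finset.sum_eq_single s] at h1
      · simp only [Polynomial.coeff_C_mul] at h1
        rw [show (∏ i ∈ s.support, ![(Polynomial.X : Polynomial k), 1] i ^ s i) = Polynomial.X ^ s 0 by
          rw [Finset.prod_subset (Finset.subset_univ _) (fun i _ hi => by
            rw [Finsupp.notMem_support_iff.1 hi, pow_zero]), Fin.prod_univ_two]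
          simp] at h1
        simp at h1
        exact hs h1.symm
      · intro t ht hts
        have htn := hbn (MvPolynomial.mem_support_iff.1 ht)
        rw [Polynomial.coeff_C_mul, Finset.prod_subset (Finset.subset_univ _) (fun i _ hi => by
          rw [Finsupp.notMem_support_iff.1 hi, pow_zero]), Fin.prod_univ_two]
        simp only [Matrix.cons_val_zero, Matrix.cons_val_one, one_pow]
        rw [mul_one, Polynomial.coeff_X_pow]
        rw [if_neg, mul_zero]
        intro he
        apply hts
        simp [Finsupp.weight_apply, Finsupp.sum_fintype, Fin.sum_univ_two] at hsn htn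
        refine Finsupp.ext fun i => ?_
        fin_cases i <;> simp_all <;> omega
      · intro hh
        exact absurd (MvPolynomial.mem_support_iff.2 hs) hh
    apply HomogeneousLocalization.val_injective
    rw [Away.val_mk, hb0]
    simp [Localization.mk_zero]

theorem chartHom_surjective (i : Fin 2) : Function.Surjective (chartHom k i) := by
  intro p
  have hc : ∀ r : k, Polynomial.C r ∈ (chartHom k i).range := by
    intro r
    refine ⟨Away.mk (CohB1.polyGrading 1 k) (MvPolynomial.isHomogeneous_X k i) 0 (MvPolynomial.C r)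
      (by simpa using MvPolynomial.isHomogeneous_C (Fin 2) r), ?_⟩
    have h := ProjPt.evalAway_mk_spec (CohB1.polyGrading 1 k)
      (MvPolynomial.eval₂Hom Polynomial.C (vec k i)) (MvPolynomial.isHomogeneous_X k i)
      (isUnit_eval_X i) 0 (MvPolynomial.C r) (by simpa using MvPolynomial.isHomogeneous_C (Fin 2) r)
    simpa [chartHom] using h
  obtain ⟨o, ho, h1⟩ : ∃ o : Fin 2, vec k i o = Polynomial.X ∧ vec k i i = 1 := by
    fin_cases i
    · exact ⟨1, rfl, rfl⟩
    · exact ⟨0, rfl, rfl⟩
  have hX : (Polynomial.X : Polynomial k) ∈ (chartHom k i).range := by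
    refine ⟨Away.mk (CohB1.polyGrading 1 k) (MvPolynomial.isHomogeneous_X k i) 1 (MvPolynomial.X o)
      (by simpa using MvPolynomial.isHomogeneous_X k o), ?_⟩
    have h := ProjPt.evalAway_mk_spec (CohB1.polyGrading 1 k)
      (MvPolynomial.eval₂Hom Polynomial.C (vec k i)) (MvPolynomial.isHomogeneous_X k i)
      (isUnit_eval_X i) 1 (MvPolynomial.X o) (by simpa using MvPolynomial.isHomogeneous_X k o)
    simpa [chartHom, ho, h1] using h
  induction p using Polynomial.induction_on' with
  | add a b ha hb =>
    obtain ⟨x, rfl⟩ := ha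
    obtain ⟨y, rfl⟩ := hb
    exact ⟨x + y, map_add _ _ _⟩
  | monomial n a =>
    rw [← Polynomial.C_mul_X_pow_eq_monomial]
    exact Subring.mul_mem _ (hc a) (Subring.pow_mem _ hX n)

theorem line_eq (i : Fin 2) : line k i = Spec.map (CommRingCat.ofHom (chartHom k i)) ≫
    Proj.awayι (CohB1.polyGrading 1 k) (MvPolynomial.X i) (MvPolynomial.isHomogeneous_X k i) one_pos := by
  rw [line, P1Const28.pt, ProjPt.pt, ← ProjPt.comp_evalAway (CohB1.polyGrading 1 k)
    (Scheme.ΓSpecIso (CommRingCat.of (Polynomial k))).inv.hom _ (d := 1) (MvPolynomial.isHomogeneous_X k i)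
    (isUnit_eval_X i), CommRingCat.ofHom_comp, CommRingCat.ofHom_hom,
    Spec.map_comp, ← Category.assoc, ← Category.assoc, toSpecΓ_SpecMap_ΓSpecIso_inv, Category.id_comp]
  rfl

theorem isIso_specMap_chartHom (i : Fin 2) : IsIso (Spec.map (CommRingCat.ofHom (chartHom k i))) := by
  haveI : IsIso (CommRingCat.ofHom (chartHom k i)) :=
    (ConcreteCategory.isIso_iff_bijective _).2 ⟨chartHom_injective i, chartHom_surjective i⟩
  infer_instance

instance isOpenImmersion_line (i : Fin 2) : IsOpenImmersion (line k i) := by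
  rw [line_eq]
  haveI := isIso_specMap_chartHom (k := k) i
  infer_instance

theorem exists_line_eq (P : ↥(CohB1.ProjSpace 1 k)) : ∃ i p, line k i p = P := by
  have hcov := Proj.iSup_basicOpen_eq_top (CohB1.polyGrading 1 k)
    (fun i : Fin 2 => (MvPolynomial.X i : MvPolynomial (Fin 2) k)) ?_
  · have hP : P ∈ ⨆ i : Fin 2, Proj.basicOpen (CohB1.polyGrading 1 k) (MvPolynomial.X i) := hcov.symm ▸ trivial
    obtain ⟨i, hi⟩ := TopologicalSpace.Opens.mem_iSup.1 hP
    haveI := isIso_specMap_chartHom (k := k) i
    have he : (line k i).opensRange = Proj.basicOpen (CohB1.polyGrading 1 k) (MvPolynomial.X i) := by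
      simp only [line_eq, Scheme.Hom.opensRange_comp_of_isIso, Proj.opensRange_awayι]
    exact ⟨i, show P ∈ (line k i).opensRange from he.symm ▸ hi⟩
  · intro x hx
    classical
    rw [← DirectSum.sum_support_decompose (CohB1.polyGrading 1 k) x]
    refine Ideal.sum_mem _ fun n hn => ?_
    refine P1Const28.mem_span_X_of_isHomogeneous (SetLike.coe_mem (DirectSum.decompose (CohB1.polyGrading 1 k) x n)) ?_
    refine Nat.pos_of_ne_zero fun h0 => ?_
    subst h0
    exact DFinsupp.mem_support_iff.1 hn (Subtype.ext ((GradedRing.proj_apply _ _ _).symm.trans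
      ((HomogeneousIdeal.mem_irrelevant_iff _ _).1 hx)))

/-- The minimal polynomial of a point of degree at least three of the affine line. -/
theorem exists_minpoly (i : Fin 2) (p : Spec (CommRingCat.of (Polynomial k)))
    (hdeg : letI := ((CohB1.ProjSpace.toSpec 1 k).residueFieldMap (line k i p)).hom.toAlgebra
      3 ≤ Module.finrank ↑((Spec (CommRingCat.of k)).residueField ((CohB1.ProjSpace.toSpec 1 k) (line k i p)))
        ↑((CohB1.ProjSpace 1 k).residueField (line k i p))) :
    ∃ (m : Polynomial k) (v : (CohB1.ProjSpace 1 k).residueField (line k i p) ⟶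
        CommRingCat.of (Polynomial k ⧸ Ideal.span {m})),
      3 ≤ m.natDegree ∧
      Spec.map v ≫ (CohB1.ProjSpace 1 k).fromSpecResidueField (line k i p) =
        Spec.map (CommRingCat.ofHom (Ideal.Quotient.mk (Ideal.span {m}))) ≫ line k i := by
  let P := line k i p
  let π := CohB1.ProjSpace.toSpec 1 k
  let s := π P
  let κp := p.asIdeal.ResidueField
  let e : (CohB1.ProjSpace 1 k).residueField P ≅ CommRingCat.of κp :=
    asIso ((line k i).residueFieldMap p) ≪≫ Scheme.Spec.residueFieldIso (CommRingCat.of (Polynomial k)) p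
  have he : Spec.map e.hom ≫ (CohB1.ProjSpace 1 k).fromSpecResidueField P =
      Spec.map (CommRingCat.ofHom (algebraMap (Polynomial k) κp)) ≫ line k i := by
    rw [Iso.trans_hom, asIso_hom, Spec.map_comp, Category.assoc,
      Scheme.Hom.SpecMap_residueFieldMap_fromSpecResidueField,
      ← Scheme.Spec.map_residueFieldIso_inv_eq_fromSpecResidueField, ← Category.assoc, ← Category.assoc,
      ← Spec.map_comp, Iso.inv_hom_id, Spec.map_id, Category.id_comp]
  let ιs : CommRingCat.of k ⟶ (Spec (CommRingCat.of k)).residueField s :=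
    CommRingCat.ofHom (algebraMap k s.asIdeal.ResidueField) ≫ (Scheme.Spec.residueFieldIso (CommRingCat.of k) s).inv
  let A := (Spec (CommRingCat.of k)).residueField s
  let g : A ⟶ CommRingCat.of κp := π.residueFieldMap P ≫ e.hom
  have hι : Function.Surjective ιs.hom := by
    haveI : s.asIdeal.IsMaximal := by
      rw [Ideal.eq_bot_of_prime s.asIdeal]
      exact Ideal.bot_isMaximal
    exact (ConcreteCategory.bijective_of_isIso (Scheme.Spec.residueFieldIso (CommRingCat.of k) s).inv).2.comp
      (Ideal.algebraMap_residueField_surjective _)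
  have hg : ιs ≫ g = CommRingCat.ofHom ((algebraMap (Polynomial k) κp).comp Polynomial.C) := by
    apply Spec.map_injective
    have hs : Spec.map ιs = (Spec (CommRingCat.of k)).fromSpecResidueField s := by
      rw [Spec.map_comp]
      exact Scheme.Spec.map_residueFieldIso_inv_eq_fromSpecResidueField _ _
    calc Spec.map (ιs ≫ g)
        = Spec.map e.hom ≫ Spec.map (π.residueFieldMap P) ≫ (Spec (CommRingCat.of k)).fromSpecResidueField s := by
          rw [Spec.map_comp, Spec.map_comp, hs, Category.assoc]
      _ = (Spec.map e.hom ≫ (CohB1.ProjSpace 1 k).fromSpecResidueField P) ≫ π := by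
          rw [Category.assoc]
          exact congrArg (Spec.map e.hom ≫ ·) (Scheme.Hom.SpecMap_residueFieldMap_fromSpecResidueField π P)
      _ = _ := by rw [he, Category.assoc, line_toSpec i, CommRingCat.ofHom_comp, Spec.map_comp]
  letI := (π.residueFieldMap P).hom.toAlgebra
  letI : Algebra A κp := g.hom.toAlgebra
  let E : (CohB1.ProjSpace 1 k).residueField P ≃ₐ[A] κp :=
    AlgEquiv.ofRingEquiv (f := e.commRingCatIsoToRingEquiv) fun _ => rfl
  have h3 : 3 ≤ Module.finrank A κp := E.toLinearEquiv.finrank_eq ▸ hdeg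
  haveI : Module.Finite A κp := Module.finite_of_finrank_pos (by omega)
  have hC : ∀ a : k, algebraMap A κp (ιs.hom a) = algebraMap (Polynomial k) κp (Polynomial.C a) := fun a =>
    congrArg (fun f => f.hom a) hg
  have hne : p.asIdeal ≠ ⊥ := by
    intro hbot
    let x := algebraMap (Polynomial k) κp Polynomial.X
    obtain ⟨q, hq, hqx⟩ := Algebra.IsIntegral.isIntegral (R := A) x
    obtain ⟨q', rfl⟩ := Polynomial.map_surjective ιs.hom hι q
    have hmem : q' ∈ p.asIdeal := by
      rw [← Ideal.algebraMap_residueField_eq_zero]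
      conv_lhs => rw [← Polynomial.eval₂_C_X (p := q')]
      rw [Polynomial.hom_eval₂]
      rw [Polynomial.eval₂_map] at hqx
      rw [show (algebraMap (Polynomial k) κp).comp Polynomial.C = (algebraMap A κp).comp ιs.hom from
        RingHom.ext fun a => (hC a).symm]
      exact hqx
    rw [hbot, Ideal.mem_bot] at hmem
    rw [hmem, Polynomial.map_zero] at hq
    exact Polynomial.not_monic_zero hq
  haveI : p.asIdeal.IsMaximal := Ideal.IsPrime.isMaximal inferInstance hne
  obtain ⟨m, hm⟩ := (IsPrincipalIdealRing.principal p.asIdeal).principal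
  have hm' : p.asIdeal = Ideal.span {m} := hm
  have hm0 : m ≠ 0 := fun h => hne (by rw [hm', h, Ideal.span_singleton_eq_bot.2 rfl])
  refine ⟨m, ?_, ?_, ?_⟩
  · exact e.hom ≫ CommRingCat.ofHom ((Ideal.quotEquivOfEq hm').toRingHom.comp
      (RingEquiv.ofBijective _ (Ideal.bijective_algebraMap_quotient_residueField p.asIdeal)).symm.toRingHom)
  · by_contra hlt
    push Not at hlt
    let x := algebraMap (Polynomial k) κp Polynomial.X
    let L : (Fin 2 → A) →ₗ[A] κp := Fintype.linearCombination A ![1, x]
    have hL : Function.Surjective L := fun v => by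
      obtain ⟨r, rfl⟩ := Ideal.algebraMap_residueField_surjective p.asIdeal v
      have hmem : r - r % m ∈ p.asIdeal := by
        rw [hm', Ideal.mem_span_singleton]
        exact ⟨r / m, by linear_combination -(EuclideanDomain.div_add_mod r m)⟩
      have hd : (r % m).natDegree ≤ 1 := by
        by_cases h0 : r % m = 0
        · simp [h0]
        have := Polynomial.natDegree_lt_natDegree h0 (Polynomial.degree_mod_lt r hm0)
        omega
      obtain ⟨a, b, hab⟩ := Polynomial.exists_eq_X_add_C_of_natDegree_le_one hd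
      refine ⟨![ιs.hom b, ιs.hom a], ?_⟩
      rw [← Ideal.algebraMap_residueField_eq_zero, map_sub, sub_eq_zero] at hmem
      rw [hmem, hab]
      simp [L, Fintype.linearCombination_apply, Fin.sum_univ_two, Algebra.smul_def, hC, x, add_comm] <;> rfl
    have := LinearMap.finrank_range_le L
    rw [LinearMap.range_eq_top.2 hL, finrank_top, Module.finrank_fin_fun] at this
    omega
  · rw [Spec.map_comp, Category.assoc, he, ← Category.assoc, ← Spec.map_comp]
    congr 2
    refine CommRingCat.hom_ext (RingHom.ext fun r => ?_)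
    show Ideal.quotEquivOfEq hm' ((RingEquiv.ofBijective _
      (Ideal.bijective_algebraMap_quotient_residueField p.asIdeal)).symm (algebraMap (Polynomial k) κp r)) = _
    rw [show (RingEquiv.ofBijective _ (Ideal.bijective_algebraMap_quotient_residueField p.asIdeal)).symm
      (algebraMap (Polynomial k) κp r) = Ideal.Quotient.mk p.asIdeal r from
      (RingEquiv.symm_apply_eq _).2 rfl]
    rfl

variable {K : Type u} [Field K]

/-- A function equal to one on a closed subscheme and supported in a given neighbourhood of it. -/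
theorem exists_fun_one {A : Type u} [CommRing A] (J : Ideal A) (W : Set (PrimeSpectrum A)) (hW : IsOpen W)
    (hJ : PrimeSpectrum.zeroLocus (J : Set A) ⊆ W) :
    ∃ f : A, f - 1 ∈ J ∧ ∀ x : PrimeSpectrum A, f ∉ x.asIdeal → x ∈ W := by
  have hI : PrimeSpectrum.zeroLocus (PrimeSpectrum.vanishingIdeal Wᶜ : Set A) = Wᶜ := by
    rw [PrimeSpectrum.zeroLocus_vanishingIdeal_eq_closure]
    exact hW.isClosed_compl.closure_eq
  have htop : PrimeSpectrum.vanishingIdeal Wᶜ ⊔ J = ⊤ := by
    rw [← PrimeSpectrum.zeroLocus_empty_iff_eq_top, PrimeSpectrum.zeroLocus_sup, hI,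
      Set.eq_empty_iff_forall_notMem]
    exact fun x hx => hx.1 (hJ hx.2)
  obtain ⟨f, hf, n, hn, hfn⟩ := Submodule.mem_sup.1 (htop ▸ Submodule.mem_top :
    (1 : A) ∈ PrimeSpectrum.vanishingIdeal Wᶜ ⊔ J)
  refine ⟨f, ?_, fun x hx => by_contra fun hxW => hx ((PrimeSpectrum.mem_vanishingIdeal _ _).1 hf x hxW)⟩
  rw [show f - 1 = -n by linear_combination hfn]
  exact neg_mem hn

/-- An epimorphism into the rational functions is given by a fraction of degree at most one. -/
theorem degree_le_one_of_epi (θ : Polynomial K →+* RatFunc K)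
    (hθ : ∀ c, θ (Polynomial.C c) = algebraMap K (RatFunc K) c) [Epi (CommRingCat.ofHom θ)] :
    max (θ Polynomial.X).num.natDegree (θ Polynomial.X).denom.natDegree ≤ 1 := by
  by_cases hc : ∃ c, θ Polynomial.X = RatFunc.C c
  · obtain ⟨c, hc⟩ := hc
    simp [hc]
  let θ' : Polynomial K →+* IntermediateField.adjoin K {θ Polynomial.X} :=
    (Polynomial.aeval (⟨θ Polynomial.X, IntermediateField.mem_adjoin_simple_self K (θ Polynomial.X)⟩ :
      IntermediateField.adjoin K {θ Polynomial.X})).toRingHom
  have hfac : θ = (algebraMap (IntermediateField.adjoin K {θ Polynomial.X}) (RatFunc K)).comp θ' := by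
    refine Polynomial.ringHom_ext (fun c => ?_) ?_
    · rw [hθ]
      simp [θ']
    · simp [θ']
  haveI : Epi (CommRingCat.ofHom (algebraMap (IntermediateField.adjoin K {θ Polynomial.X}) (RatFunc K))) := by
    haveI : Epi (CommRingCat.ofHom θ' ≫
        CommRingCat.ofHom (algebraMap (IntermediateField.adjoin K {θ Polynomial.X}) (RatFunc K))) := by
      rw [← CommRingCat.ofHom_comp, ← hfac]; infer_instance
    exact epi_of_epi (CommRingCat.ofHom θ') _
  have hpos : 0 < Module.finrank (IntermediateField.adjoin K {θ Polynomial.X}) (RatFunc K) := by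
    rw [RatFunc.finrank_eq_max_natDegree]
    by_contra h0
    apply hc
    exact (RatFunc.eq_C_iff _).2 (by omega)
  haveI := Module.finite_of_finrank_pos hpos
  have hsurj : Function.Surjective (algebraMap (IntermediateField.adjoin K {θ Polynomial.X}) (RatFunc K)) :=
    RingHom.surjective_of_epi_of_finite
      (CommRingCat.ofHom (algebraMap (IntermediateField.adjoin K {θ Polynomial.X}) (RatFunc K)))
      (RingHom.finite_algebraMap.2 inferInstance)
  rw [← RatFunc.finrank_eq_max_natDegree]
  have h := LinearMap.finrank_range_le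
    (Algebra.linearMap (IntermediateField.adjoin K {θ Polynomial.X}) (RatFunc K))
  rw [LinearMap.range_eq_top.2 hsurj, finrank_top, Module.finrank_self] at h
  exact h

/-- A fraction of degree at most one congruent to the variable modulo a polynomial of degree at least three. -/
theorem eq_X_of_congr (r : RatFunc K) (hr : max r.num.natDegree r.denom.natDegree ≤ 1) (f g m : Polynomial K)
    (hm : 3 ≤ m.natDegree) (N : ℕ) (hf : f - 1 ∈ Ideal.span {m}) (hg : g - Polynomial.X ∈ Ideal.span {m})
    (h : r * algebraMap (Polynomial K) (RatFunc K) (f ^ N) = algebraMap (Polynomial K) (RatFunc K) g) :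
    r = RatFunc.X := by
  have hden : algebraMap (Polynomial K) (RatFunc K) r.denom ≠ 0 := RatFunc.algebraMap_ne_zero r.denom_ne_zero
  have hdiv : r * algebraMap (Polynomial K) (RatFunc K) r.denom = algebraMap (Polynomial K) (RatFunc K) r.num :=
    (eq_div_iff hden).1 (RatFunc.num_div_denom r).symm
  have hpoly : r.num * f ^ N = g * r.denom := by
    apply RatFunc.algebraMap_injective K
    rw [map_mul, map_mul, ← hdiv, ← h]
    ring
  have hf' : Ideal.Quotient.mk (Ideal.span {m}) f = 1 := by
    rw [← map_one (Ideal.Quotient.mk (Ideal.span {m})), Ideal.Quotient.mk_eq_mk_iff_sub_mem]; exact hf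
  have hg' : Ideal.Quotient.mk (Ideal.span {m}) g = Ideal.Quotient.mk (Ideal.span {m}) Polynomial.X :=
    Ideal.Quotient.mk_eq_mk_iff_sub_mem _ _ |>.2 hg
  have hnum : r.num - Polynomial.X * r.denom = 0 := by
    refine Polynomial.eq_zero_of_dvd_of_natDegree_lt (p := m) ?_ (lt_of_le_of_lt (b := 2) ?_ hm)
    · rw [← Ideal.mem_span_singleton, ← Ideal.Quotient.mk_eq_mk_iff_sub_mem]
      have h' := congrArg (Ideal.Quotient.mk (Ideal.span {m})) hpoly
      rw [map_mul, map_mul, map_pow, hf', one_pow, mul_one, hg', ← map_mul] at h'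
      exact h'
    · refine (Polynomial.natDegree_sub_le _ _).trans (max_le (by omega) ?_)
      refine Polynomial.natDegree_mul_le.trans ?_
      rw [Polynomial.natDegree_X]
      omega
  rw [← RatFunc.num_div_denom r, sub_eq_zero.1 hnum, map_mul, mul_div_assoc, div_self hden, mul_one,
    RatFunc.algebraMap_X]

instance epi_algebraMap_ratFunc : Epi (CommRingCat.ofHom (algebraMap (Polynomial K) (RatFunc K))) :=
  ⟨fun g h e => CommRingCat.hom_ext (IsLocalization.ringHom_ext (nonZeroDivisors (Polynomial K))
    (congrArg CommRingCat.Hom.hom e))⟩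

theorem mono_SpecMap {A B : CommRingCat.{u}} (h : A ⟶ B) [Epi h] : Mono (Spec.map h) :=
  inferInstanceAs (Mono (Scheme.Spec.map h.op))

theorem epi_of_mono_SpecMap {A B : CommRingCat.{u}} (h : A ⟶ B) [Mono (Spec.map h)] : Epi h :=
  ⟨fun g g' e => Spec.map_injective ((cancel_mono (Spec.map h)).1 (by rw [← Spec.map_comp, ← Spec.map_comp, e]))⟩

/-- An automorphism of a separated integral scheme over `K` fixing a thick enough subscheme of an open affine
line is the identity. -/
theorem eq_id_of_fix {Q : Scheme.{u}} (q : Q ⟶ Spec (CommRingCat.of K)) [IsSeparated q]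
    (j : Spec (CommRingCat.of (Polynomial K)) ⟶ Q) [IsOpenImmersion j]
    (hj : j ≫ q = Spec.map (CommRingCat.ofHom (Polynomial.C : K →+* Polynomial K)))
    (φ : Q ≅ Q) (hφ : φ.hom ≫ q = q) (m : Polynomial K) (hm : 3 ≤ m.natDegree)
    (hfix : (Spec.map (CommRingCat.ofHom (Ideal.Quotient.mk (Ideal.span {m}))) ≫ j) ≫ φ.hom =
      Spec.map (CommRingCat.ofHom (Ideal.Quotient.mk (Ideal.span {m}))) ≫ j) :
    j ≫ φ.hom = j := by
  obtain ⟨f, hf1, hfW⟩ := exists_fun_one (Ideal.span {m}) ((j ≫ φ.hom) ⁻¹' Set.range j)
    (j.isOpenEmbedding.isOpen_range.preimage (j ≫ φ.hom).continuous) (by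
      intro x hx
      obtain ⟨y, rfl⟩ : x ∈ Set.range (PrimeSpectrum.comap (Ideal.Quotient.mk (Ideal.span {m}))) := by
        rw [range_comap_of_surjective _ _ Ideal.Quotient.mk_surjective, Ideal.mk_ker]
        exact hx
      refine ⟨Spec.map (CommRingCat.ofHom (Ideal.Quotient.mk (Ideal.span {m}))) y, ?_⟩
      exact (congrArg (fun t : Spec (CommRingCat.of (Polynomial K ⧸ Ideal.span {m})) ⟶ Q => t y) hfix).symm)
  have hfR : Ideal.Quotient.mk (Ideal.span {m}) f = 1 := by
    rw [← map_one (Ideal.Quotient.mk (Ideal.span {m})), Ideal.Quotient.mk_eq_mk_iff_sub_mem]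
    exact hf1
  have hf0 : f ≠ 0 := by
    rintro rfl
    rw [zero_sub, neg_mem_iff, Ideal.mem_span_singleton] at hf1
    have h := Polynomial.natDegree_le_of_dvd hf1 one_ne_zero
    rw [Polynomial.natDegree_one] at h
    omega
  have hrange : Set.range (Spec.map (CommRingCat.ofHom (algebraMap (Polynomial K) (Localization.Away f))) ≫ j ≫ φ.hom)
      ⊆ Set.range j := by
    rintro _ ⟨x, rfl⟩
    exact hfW _ ((PrimeSpectrum.localization_away_comap_range (Localization.Away f) f).le ⟨x, rfl⟩)
  obtain ⟨ψ, hψ⟩ := Spec.map_surjective (IsOpenImmersion.lift j _ hrange)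
  have hψj : Spec.map ψ ≫ j =
      Spec.map (CommRingCat.ofHom (algebraMap (Polynomial K) (Localization.Away f))) ≫ j ≫ φ.hom := by
    rw [hψ, IsOpenImmersion.lift_fac]
  have hfu : IsUnit (algebraMap (Polynomial K) (RatFunc K) f) := IsUnit.mk0 _ (RatFunc.algebraMap_ne_zero hf0)
  obtain ⟨toF, htoF⟩ : ∃ h : Localization.Away f →+* RatFunc K,
      h.comp (algebraMap (Polynomial K) (Localization.Away f)) = algebraMap (Polynomial K) (RatFunc K) :=
    ⟨_, IsLocalization.Away.lift_comp f hfu⟩
  obtain ⟨toR, htoR⟩ : ∃ h : Localization.Away f →+* Polynomial K ⧸ Ideal.span {m},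
      h.comp (algebraMap (Polynomial K) (Localization.Away f)) = Ideal.Quotient.mk (Ideal.span {m}) :=
    ⟨_, IsLocalization.Away.lift_comp f (hfR ▸ isUnit_one)⟩
  have hC : ψ.hom.comp Polynomial.C = (algebraMap (Polynomial K) (Localization.Away f)).comp Polynomial.C := by
    refine congrArg CommRingCat.Hom.hom (Spec.map_injective (?_ :
      Spec.map (CommRingCat.ofHom (Polynomial.C : K →+* Polynomial K) ≫ ψ) =
      Spec.map (CommRingCat.ofHom (Polynomial.C : K →+* Polynomial K) ≫
        CommRingCat.ofHom (algebraMap (Polynomial K) (Localization.Away f)))))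
    rw [Spec.map_comp, Spec.map_comp, ← hj, ← Category.assoc, hψj, Category.assoc, Category.assoc, hφ]
  have hR : toR.comp ψ.hom = Ideal.Quotient.mk (Ideal.span {m}) := by
    refine congrArg CommRingCat.Hom.hom (Spec.map_injective ((cancel_mono j).1 (?_ :
      Spec.map (ψ ≫ CommRingCat.ofHom toR) ≫ j =
        Spec.map (CommRingCat.ofHom (Ideal.Quotient.mk (Ideal.span {m}))) ≫ j)))
    rw [Spec.map_comp, Category.assoc, hψj, ← Category.assoc, ← Spec.map_comp, ← CommRingCat.ofHom_comp, htoR,
      ← Category.assoc, hfix]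
  have hθ : Spec.map (ψ ≫ CommRingCat.ofHom toF) ≫ j =
      Spec.map (CommRingCat.ofHom (algebraMap (Polynomial K) (RatFunc K))) ≫ j ≫ φ.hom := by
    rw [Spec.map_comp, Category.assoc, hψj, ← Category.assoc, ← Spec.map_comp, ← CommRingCat.ofHom_comp, htoF]
  haveI : Epi (CommRingCat.ofHom (toF.comp ψ.hom)) := by
    haveI := mono_SpecMap (CommRingCat.ofHom (algebraMap (Polynomial K) (RatFunc K)))
    haveI : Mono (Spec.map (ψ ≫ CommRingCat.ofHom toF) ≫ j) := by rw [hθ]; infer_instance
    haveI := mono_of_mono (Spec.map (ψ ≫ CommRingCat.ofHom toF)) j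
    exact epi_of_mono_SpecMap (ψ ≫ CommRingCat.ofHom toF)
  have hdeg := degree_le_one_of_epi (toF.comp ψ.hom) (fun c => by
    rw [RingHom.comp_apply, show ψ.hom (Polynomial.C c) = _ from RingHom.congr_fun hC c, RingHom.comp_apply,
      ← RingHom.comp_apply toF, htoF]
    exact (IsScalarTower.algebraMap_apply K (Polynomial K) (RatFunc K) c).symm)
  obtain ⟨N, g, hg⟩ := IsLocalization.Away.surj (S := Localization.Away f) f (ψ.hom Polynomial.X)
  have hgF : toF (ψ.hom Polynomial.X) * algebraMap (Polynomial K) (RatFunc K) (f ^ N) =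
      algebraMap (Polynomial K) (RatFunc K) g := by
    rw [← htoF, RingHom.comp_apply, RingHom.comp_apply, ← map_mul, map_pow, hg]
  have hgR : g - Polynomial.X ∈ Ideal.span {m} := by
    have h := congrArg toR hg
    rw [map_mul, map_pow, ← RingHom.comp_apply, ← RingHom.comp_apply toR, ← RingHom.comp_apply toR, htoR, hfR, one_pow, mul_one, hR] at h
    exact (Ideal.Quotient.mk_eq_mk_iff_sub_mem _ _).1 h.symm
  have hX := eq_X_of_congr _ hdeg f g m hm N hf1 hgR hgF
  have hinj : Function.Injective toF := by
    rw [injective_iff_map_eq_zero]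
    intro z hz
    obtain ⟨n, g, hg⟩ := IsLocalization.Away.surj (S := Localization.Away f) f z
    have h := congrArg toF hg
    rw [map_mul, hz, zero_mul, ← RingHom.comp_apply, htoF] at h
    rw [(RatFunc.algebraMap_injective K) (h.symm.trans (map_zero _).symm), map_zero] at hg
    exact (IsUnit.mul_left_eq_zero ((IsLocalization.Away.algebraMap_isUnit f).pow n)).1 hg
  have hψa : ψ = CommRingCat.ofHom (algebraMap (Polynomial K) (Localization.Away f)) := by
    refine CommRingCat.hom_ext (Polynomial.ringHom_ext (fun c => RingHom.congr_fun hC c) (hinj ?_))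
    rw [CommRingCat.hom_ofHom, ← RingHom.comp_apply toF (algebraMap _ _), htoF, RatFunc.algebraMap_X]
    exact hX
  haveI : IsOpenImmersion (Spec.map (CommRingCat.ofHom (algebraMap (Polynomial K) (Localization.Away f)))) :=
    IsOpenImmersion.of_isLocalization f
  haveI : Nontrivial (Localization.Away f) := RingHom.domain_nontrivial toF
  haveI : Nonempty (Spec (CommRingCat.of (Localization.Away f))) :=
    inferInstanceAs (Nonempty (PrimeSpectrum (Localization.Away f)))
  haveI : IsDominant (Spec.map (CommRingCat.ofHom (algebraMap (Polynomial K) (Localization.Away f)))) :=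
    ⟨(Scheme.Hom.isOpenEmbedding _).isOpen_range.dense (Set.range_nonempty _)⟩
  refine ext_of_isDominant_of_isSeparated q (by rw [Category.assoc, hφ])
    (Spec.map (CommRingCat.ofHom (algebraMap (Polynomial K) (Localization.Away f)))) ?_
  rw [← hψj, hψa]

/-- An automorphism fixing an affine line pointwise fixes the neighbouring ones. -/
theorem eq_of_fix {Q : Scheme.{u}} (q : Q ⟶ Spec (CommRingCat.of K)) [IsSeparated q] {A : Type u} [CommRing A]
    [IsDomain A] (j' : Spec (CommRingCat.of A) ⟶ Q) {W : Scheme.{u}} (j : W ⟶ Q) [IsOpenImmersion j]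
    (φ : Q ⟶ Q) (hφ : φ ≫ q = q) (hj : j ≫ φ = j) (hne : ∃ x, j' x ∈ j.opensRange) : j' ≫ φ = j' := by
  haveI : Nonempty ↥(Scheme.Opens.toScheme (j' ⁻¹ᵁ j.opensRange)) := ⟨⟨hne.choose, hne.choose_spec⟩⟩
  haveI : IsDominant (j' ⁻¹ᵁ j.opensRange).ι :=
    ⟨(Scheme.Hom.isOpenEmbedding _).isOpen_range.dense (Set.range_nonempty _)⟩
  refine ext_of_isDominant_of_isSeparated q (by rw [Category.assoc, hφ]) (j' ⁻¹ᵁ j.opensRange).ι ?_
  have hr : Set.range ((j' ⁻¹ᵁ j.opensRange).ι ≫ j') ⊆ Set.range j := by
    rintro _ ⟨x, rfl⟩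
    exact x.2
  rw [← Category.assoc, ← IsOpenImmersion.lift_fac j _ hr, Category.assoc, hj]

/-- Two open subsets covering a scheme detect morphisms. -/
theorem hom_ext_of_cover {Q Y : Scheme.{u}} {ι : Type} {W : ι → Scheme.{u}} (j : ∀ i, W i ⟶ Q)
    [∀ i, IsOpenImmersion (j i)] (h : ∀ x, ∃ i w, j i w = x) (f g : Q ⟶ Y) (e : ∀ i, j i ≫ f = j i ≫ g) : f = g := by
  have hU : (⨆ x : ↥Q, (j (h x).choose).opensRange) = ⊤ :=
    top_le_iff.1 fun x _ => TopologicalSpace.Opens.mem_iSup.2 ⟨x, (h x).choose_spec⟩
  refine (Scheme.openCoverOfIsOpenCover Q (fun x => (j (h x).choose).opensRange) hU).hom_ext _ _ fun x => ?_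
  rw [← cancel_epi (j (h x).choose).isoOpensRange.hom]
  simp only [Scheme.openCoverOfIsOpenCover]
  rw [Scheme.Hom.isoOpensRange_hom_ι_assoc, Scheme.Hom.isoOpensRange_hom_ι_assoc, e]

end GrothLib.P1Rigid
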